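import Cfsg.Agent.Helper19.CT.Simple

/-!
helper19 (S1164, Curtis–Tits presentation): the assembly. Root elements `x̂_r(t)` of the Curtis–Tits group for all the
roots satisfying Steinberg's relations give the inverse of the evident homomorphism `toSt`.
-/

set_option autoImplicit false
set_option linter.unusedSectionVars false

namespace Cfsg.Agent.Helper19.CT

open Cfsg Cfsg.Lie Cfsg.Agent.Helper18 Cfsg.Agent.Helper40.St Cfsg.Agent.Helper40.ChevAdd Cfsg.Agent.Helper40.UProd
  Cfsg.Agent.Helper40.SL2Hom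

section
variable {D : ChevalleyDatum} (hD : D ∈ [chevD4, chevF4, chevE6, chevE7, chevE8]) (K : Type*) [Field K]
  (xh : ℕ → K → D.CurtisTitsGroup K)

/-- the images of the generators of Steinberg's presentation -/
def xhFun (xh : ℕ → K → D.CurtisTitsGroup K) : Fin D.nroots × K → D.CurtisTitsGroup K := fun p => xh p.1.val p.2

theorem lift_xhFun_stX (r : ℕ) (hr : r < D.nroots) (t : K) : FreeGroup.lift (xhFun K xh) (D.stX r t) = xh r t := by
  unfold ChevalleyDatum.stX
  rw [dif_pos hr, FreeGroup.lift_apply_of]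
  rfl

theorem lift_xhFun_stWord (w : List (ℕ × K)) (hw : ∀ e ∈ w, e.1 < D.nroots) :
    FreeGroup.lift (xhFun K xh) (D.stWord w) = wordG xh w := by
  unfold ChevalleyDatum.stWord wordG
  rw [map_list_prod, List.map_map]
  congr 1
  apply List.map_congr_left
  intro p hp
  exact lift_xhFun_stX K xh p.1 (hw p hp) p.2

include hD in
theorem lift_xhFun_stH (r : ℕ) (hr : r < D.nroots) (t : K) :
    FreeGroup.lift (xhFun K xh) (D.stH r t) = nbar D xh r t * nbar D xh r (-1) := by
  unfold ChevalleyDatum.stH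
  rw [lift_xhFun_stWord]
  · unfold ChevalleyDatum.hWord
    rw [wordG_append]
    unfold ChevalleyDatum.nWord nbar w wordG
    simp [mul_assoc]
  · intro e he
    unfold ChevalleyDatum.hWord ChevalleyDatum.nWord at he
    simp only [List.cons_append, List.nil_append, List.mem_cons, List.not_mem_nil, or_false] at he
    have hn := neg_lt hD hr
    rcases he with rfl | rfl | rfl | rfl | rfl | rfl <;> assumption

variable (hX : Param K hD xh)
  (hcomm : ∀ r s, r < D.nroots → s < D.nroots → s ≠ r → s ≠ D.neg r → ∀ t u : K,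
    xh s u * xh r t = xh r t * xh s u * wordG xh (D.commWord K r s t u))
  (hrel : ∀ r < D.nroots, ∀ t u : K, t ≠ 0 → u ≠ 0 →
    (nbar D xh r t * nbar D xh r (-1)) * (nbar D xh r u * nbar D xh r (-1)) =
      nbar D xh r (t * u) * nbar D xh r (-1))
  (hst : ∀ r < D.nroots, ∀ t : K, toSt hD K (xh r t) = D.stGen K r t)

include hX hcomm hrel in
theorem lift_xhFun_rels : ∀ g ∈ D.steinbergRels K, FreeGroup.lift (xhFun K xh) g = 1 := by
  intro g hg
  rcases hg with (⟨r, t₁, t₂, hr, rfl⟩ | ⟨r, s, t, u, hr, hs, h1, h2, rfl⟩) | ⟨r, t₁, t₂, hr, h1, h2, rfl⟩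
  · rw [map_mul, map_mul, map_inv, lift_xhFun_stX K xh r hr, lift_xhFun_stX K xh r hr, lift_xhFun_stX K xh r hr,
      hX.add r hr, mul_inv_cancel]
  · have hw : ∀ e ∈ D.commWord K r s t u, e.1 < D.nroots := by
      intro e he
      unfold ChevalleyDatum.commWord at he
      obtain ⟨c, hc, rfl⟩ := List.mem_map.mp he
      exact (commTerms_lvl D (mem7_of_mem5 hD) (fun _ => 0) (fun v hv => ⟨by simp, by simp⟩) r s hr hs c hc).1
    rw [map_mul, map_mul, map_mul, map_mul, map_inv, map_inv, map_inv, lift_xhFun_stX K xh r hr,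
      lift_xhFun_stX K xh s hs, lift_xhFun_stWord K xh _ hw]
    have e := hcomm r s hr hs h1 h2 t u
    rw [mul_assoc _ (xh s u), e]
    group
  · rw [map_mul, map_mul, map_inv, lift_xhFun_stH hD K xh r hr, lift_xhFun_stH hD K xh r hr,
      lift_xhFun_stH hD K xh r hr, hrel r hr t₁ t₂ h1 h2, mul_inv_cancel]

/-- the inverse of `toSt` -/
noncomputable def fromSt : D.SteinbergGroup K →* D.CurtisTitsGroup K :=
  PresentedGroup.toGroup (lift_xhFun_rels hD K xh hX hcomm hrel)

theorem fromSt_stGen (r : ℕ) (hr : r < D.nroots) (t : K) :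
    fromSt hD K xh hX hcomm hrel (D.stGen K r t) = xh r t := by
  show PresentedGroup.toGroup _ (PresentedGroup.mk _ (D.stX r t)) = _
  have : PresentedGroup.mk (D.steinbergRels K) (D.stX r t) = PresentedGroup.of (⟨r, hr⟩, t) := by
    unfold ChevalleyDatum.stX
    rw [dif_pos hr]
    rfl
  rw [this, PresentedGroup.toGroup.of]
  rfl

include hst in
theorem toSt_comp_fromSt :
    (toSt hD K).comp (fromSt hD K xh hX hcomm hrel) = MonoidHom.id (D.SteinbergGroup K) := by
  apply PresentedGroup.ext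
  rintro ⟨r, t⟩
  have h1 : (PresentedGroup.of (⟨r.val, r.isLt⟩, t) : D.SteinbergGroup K) = D.stGen K r.val t := by
    unfold ChevalleyDatum.stGen ChevalleyDatum.stX
    rw [dif_pos r.isLt]
    rfl
  show toSt hD K (fromSt hD K xh hX hcomm hrel (PresentedGroup.of (⟨r.val, r.isLt⟩, t))) =
    (PresentedGroup.of (⟨r.val, r.isLt⟩, t) : D.SteinbergGroup K)
  rw [h1, fromSt_stGen hD K xh hX hcomm hrel r.val r.isLt, hst r.val r.isLt]

theorem fromSt_comp_toSt :
    (fromSt hD K xh hX hcomm hrel).comp (toSt hD K) = MonoidHom.id (D.CurtisTitsGroup K) := by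
  apply PresentedGroup.ext
  rintro ⟨r, t⟩
  have h1 : (PresentedGroup.of (⟨r.val, r.isLt⟩, t) : D.CurtisTitsGroup K) = gen D K r.val t := by
    unfold gen ChevalleyDatum.stX
    rw [dif_pos r.isLt]
    rfl
  show fromSt hD K xh hX hcomm hrel (toSt hD K (PresentedGroup.of (⟨r.val, r.isLt⟩, t))) =
    (PresentedGroup.of (⟨r.val, r.isLt⟩, t) : D.CurtisTitsGroup K)
  rw [h1]
  by_cases hR : R2 D r.val
  · rw [toSt_gen hD K _ hR, fromSt_stGen hD K xh hX hcomm hrel r.val r.isLt, hX.eq_gen _ hR]
  · rw [gen_eq_one K _ hR, map_one, map_one]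

include hX hcomm hrel hst in
/-- the Curtis–Tits presentation, from root elements for all the roots satisfying Steinberg's relations -/
theorem curtis_tits_of :
    ∃ e : D.CurtisTitsGroup K ≃* D.SteinbergGroup K,
      ∀ (i j r : ℕ) (t : K), D.InRankTwoSub i j r →
        e (PresentedGroup.mk (D.curtisTitsRels K) (D.stX r t)) = D.stGen K r t := by
  refine ⟨MonoidHom.toMulEquiv (toSt hD K) (fromSt hD K xh hX hcomm hrel)
    (fromSt_comp_toSt hD K xh hX hcomm hrel) (toSt_comp_fromSt hD K xh hX hcomm hrel hst), ?_⟩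
  intro i j r t hij
  exact toSt_gen hD K r ⟨i, j, hij⟩ t

end

end Cfsg.Agent.Helper19.CT
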