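import Cfsg.Prelude.Def_CurtisTits
import Cfsg.Agent.Helper40.StReg
import Cfsg.Agent.Helper18.WeylPerm

/-!
helper19 (S1164, Curtis–Tits presentation): the standard rank-two subsystems `Φ_{ij}` (`InRankTwoSub i j`) are cut out by
additive functionals (the root coordinates, as integer combinations `lvlF D m` of the rows of the Cartan table), hence
closed under negation and under the roots occurring in the commutator formula.
-/

set_option autoImplicit false
set_option maxRecDepth 100000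

namespace Cfsg.Agent.Helper19.CT

open Cfsg Cfsg.Lie Cfsg.Agent.Helper18 Cfsg.Agent.Helper40.St

/-- rows of `det(A) · A⁻¹`: `lvlF D (rows l) r = det(A) · (l-th coordinate of the root r)` -/
def coordRowsD4 : List (List ℤ) := [[2, 2, 1, 1], [2, 4, 2, 2], [1, 2, 2, 1], [1, 2, 1, 2]]
def coordRowsF4 : List (List ℤ) := [[2, 3, 4, 2], [3, 6, 8, 4], [2, 4, 6, 3], [1, 2, 3, 2]]
def coordRowsE6 : List (List ℤ) :=
  [[4, 3, 5, 6, 4, 2], [3, 6, 6, 9, 6, 3], [5, 6, 10, 12, 8, 4], [6, 9, 12, 18, 12, 6], [4, 6, 8, 12, 10, 5],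
    [2, 3, 4, 6, 5, 4]]
def coordRowsE7 : List (List ℤ) :=
  [[4, 4, 6, 8, 6, 4, 2], [4, 7, 8, 12, 9, 6, 3], [6, 8, 12, 16, 12, 8, 4], [8, 12, 16, 24, 18, 12, 6],
    [6, 9, 12, 18, 15, 10, 5], [4, 6, 8, 12, 10, 8, 4], [2, 3, 4, 6, 5, 4, 3]]
def coordRowsE8 : List (List ℤ) :=
  [[4, 5, 7, 10, 8, 6, 4, 2], [5, 8, 10, 15, 12, 9, 6, 3], [7, 10, 14, 20, 16, 12, 8, 4],
    [10, 15, 20, 30, 24, 18, 12, 6], [8, 12, 16, 24, 20, 15, 10, 5], [6, 9, 12, 18, 15, 12, 8, 4],
    [4, 6, 8, 12, 10, 8, 6, 3], [2, 3, 4, 6, 5, 4, 3, 2]]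

/-- the check: the `l`-th coroot coordinate of `r` vanishes iff the functional `rows l` vanishes at `r`; the functional
is nonnegative on the upper half (positive roots) -/
def coordOK (D : ChevalleyDatum) (rows : List (List ℤ)) : Bool :=
  (List.range D.nroots).all fun r => (List.range D.rank).all fun l =>
    decide (((D.coroot.getD r #[]).getD l 0 = 0) ↔ (lvlFast D (rows.getD l []) r = 0)) &&
      decide (hlfOf D ≤ r → 0 ≤ lvlFast D (rows.getD l []) r) &&
      decide (r < hlfOf D → lvlFast D (rows.getD l []) r ≤ 0)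

theorem coordOK_D4 : coordOK chevD4 coordRowsD4 = true := by decide +kernel
theorem coordOK_F4 : coordOK chevF4 coordRowsF4 = true := by decide +kernel
theorem coordOK_E6 : coordOK chevE6 coordRowsE6 = true := by decide +kernel
theorem coordOK_E7 : coordOK chevE7 coordRowsE7 = true := by decide +kernel
theorem coordOK_E8 : coordOK chevE8 coordRowsE8 = true := by decide +kernel


/-- the five types of the Curtis–Tits statement are among the seven tabulated types -/
theorem mem7_of_mem5 {D : ChevalleyDatum} (hD : D ∈ [chevD4, chevF4, chevE6, chevE7, chevE8]) :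
    D ∈ [chevG2, chevB2, chevD4, chevF4, chevE6, chevE7, chevE8] := by
  simp only [List.mem_cons, List.not_mem_nil, or_false] at hD ⊢
  rcases hD with h | h | h | h | h <;> simp [h]

theorem exists_coord (D : ChevalleyDatum) (hD : D ∈ [chevD4, chevF4, chevE6, chevE7, chevE8]) :
    ∃ rows : List (List ℤ), coordOK D rows = true := by
  simp only [List.mem_cons, List.not_mem_nil, or_false] at hD
  rcases hD with rfl | rfl | rfl | rfl | rfl
  · exact ⟨_, coordOK_D4⟩
  · exact ⟨_, coordOK_F4⟩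
  · exact ⟨_, coordOK_E6⟩
  · exact ⟨_, coordOK_E7⟩
  · exact ⟨_, coordOK_E8⟩

section
variable {D : ChevalleyDatum} (hD : D ∈ [chevD4, chevF4, chevE6, chevE7, chevE8])
include hD

theorem coordOK_spec {rows : List (List ℤ)} (h : coordOK D rows = true) (r : ℕ) (hr : r < D.nroots) (l : ℕ)
    (hl : l < D.rank) :
    (((D.coroot.getD r #[]).getD l 0 = 0) ↔ (lvlF D (rows.getD l []) r = 0)) ∧
      (hlfOf D ≤ r → 0 ≤ lvlF D (rows.getD l []) r) ∧ (r < hlfOf D → lvlF D (rows.getD l []) r ≤ 0) := by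
  unfold coordOK at h
  rw [List.all_eq_true] at h
  have h1 := h r (List.mem_range.mpr hr)
  rw [List.all_eq_true] at h1
  have h2 := h1 l (List.mem_range.mpr hl)
  simp only [Bool.and_eq_true, decide_eq_true_eq] at h2
  rw [lvlFast_eq D (addAllOK_of_mem D (mem7_of_mem5 hD)) _ r hr] at h2
  exact ⟨h2.1.1, h2.1.2, h2.2⟩

/-- membership in a standard rank-two subsystem through the coordinate functionals -/
theorem inRankTwoSub_iff {rows : List (List ℤ)} (h : coordOK D rows = true) (i j r : ℕ) :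
    D.InRankTwoSub i j r ↔ r < D.nroots ∧ i < D.rank ∧ j < D.rank ∧
      ∀ k < D.rank, k ≠ i → k ≠ j → lvlF D (rows.getD k []) r = 0 := by
  unfold ChevalleyDatum.InRankTwoSub
  constructor
  · rintro ⟨hr, hi, hj, hk⟩
    exact ⟨hr, hi, hj, fun k hk1 hk2 hk3 => ((coordOK_spec hD h r hr k hk1).1).mp (hk k hk1 hk2 hk3)⟩
  · rintro ⟨hr, hi, hj, hk⟩
    exact ⟨hr, hi, hj, fun k hk1 hk2 hk3 => ((coordOK_spec hD h r hr k hk1).1).mpr (hk k hk1 hk2 hk3)⟩

theorem neg_lt {r : ℕ} (hr : r < D.nroots) : D.neg r < D.nroots :=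
  (triOK_spec D _ (triOK_of_mem D (mem7_of_mem5 hD)) r hr).1

/-- `Φ_{ij}` is closed under negation -/
theorem inRankTwoSub_neg {i j r : ℕ} (h : D.InRankTwoSub i j r) : D.InRankTwoSub i j (D.neg r) := by
  obtain ⟨rows, hrows⟩ := exists_coord D hD
  rw [inRankTwoSub_iff hD hrows] at h ⊢
  obtain ⟨hr, hi, hj, hk⟩ := h
  refine ⟨neg_lt hD hr, hi, hj, fun k hk1 hk2 hk3 => ?_⟩
  rw [(isAdditiveAt_lvlF_of_mem D (mem7_of_mem5 hD) _ r hr).1, hk k hk1 hk2 hk3, neg_zero]

/-- `Φ_{ij}` is closed under the roots of the commutator formula -/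
theorem inRankTwoSub_commTerms {i j r s : ℕ} (hr : D.InRankTwoSub i j r) (hs : D.InRankTwoSub i j s)
    (c : ℕ × ℤ × ℕ × ℕ) (hc : c ∈ D.commTerms r s) : D.InRankTwoSub i j c.1 := by
  obtain ⟨rows, hrows⟩ := exists_coord D hD
  rw [inRankTwoSub_iff hD hrows] at hr hs ⊢
  obtain ⟨hr1, hi, hj, hrk⟩ := hr
  obtain ⟨hs1, -, -, hsk⟩ := hs
  refine ⟨(commTerms_lvl D (mem7_of_mem5 hD) (fun _ => 0) (fun v hv => ⟨by simp, by simp⟩) r s hr1 hs1 c hc).1,
    hi, hj, fun k hk1 hk2 hk3 => ?_⟩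
  have := (commTerms_lvl D (mem7_of_mem5 hD) _
    (fun v hv => isAdditiveAt_lvlF_of_mem D (mem7_of_mem5 hD) (rows.getD k []) v hv) r s hr1 hs1 c hc).2.1
  rw [this, hrk k hk1 hk2 hk3, hsk k hk1 hk2 hk3]
  ring

end

end Cfsg.Agent.Helper19.CT
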