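import Cfsg.Agent.Helper40.StNorm

/-!
helper19 (S1164, Curtis–Tits presentation): Steinberg's relations (A), (B) restricted to a set `S` of roots closed under
the commutator formula; the collection process and the transfer principle (after Helper40, `StColl`, `StTransfer`) for
the positive part `{a ∈ S, φ a > 0}` of such a set.
-/

set_option autoImplicit false
set_option linter.unusedSectionVars false

namespace Cfsg.Agent.Helper19.CT

open Cfsg Cfsg.Lie Cfsg.Agent.Helper18 Cfsg.Agent.Helper40.St Cfsg.Agent.Helper40.ChevAdd Cfsg.Agent.Helper40.UProd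

section
variable {K : Type*} [Field K] (D : ChevalleyDatum) {Γ : Type*} [Group Γ]

/-- Steinberg's relations (A) and (B) for the roots of a set `S` -/
structure RelsOn (X : ℕ → K → Γ) (S : ℕ → Prop) : Prop where
  add : ∀ r < D.nroots, S r → ∀ t u : K, X r (t + u) = X r t * X r u
  comm : ∀ r s, r < D.nroots → s < D.nroots → S r → S s → s ≠ r → s ≠ D.neg r → ∀ t u : K,
    X s u * X r t = X r t * X s u * wordG X (D.commWord K r s t u)

/-- `S` is closed under the roots of the commutator formula -/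
def ClosedOn (S : ℕ → Prop) : Prop :=
  ∀ r s, r < D.nroots → s < D.nroots → S r → S s → ∀ c ∈ D.commTerms r s, S c.1

variable {D}
variable {X : ℕ → K → Γ} {S : ℕ → Prop}

theorem relsOn_of_rels (R : Rels D X) (S : ℕ → Prop) : RelsOn D X S where
  add := fun r hr _ t u => R.add r hr t u
  comm := fun r s hr hs _ _ h1 h2 t u => R.comm r s hr hs h1 h2 t u

theorem RelsOn.mono {S' : ℕ → Prop} (R : RelsOn D X S) (h : ∀ r, S' r → S r) : RelsOn D X S' where
  add := fun r hr hS t u => R.add r hr (h r hS) t u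
  comm := fun r s hr hs hSr hSs h1 h2 t u => R.comm r s hr hs (h r hSr) (h s hSs) h1 h2 t u

namespace RelsOn

variable (R : RelsOn D X S)
include R

theorem X_zero (r : ℕ) (hr : r < D.nroots) (hS : S r) : X r 0 = 1 := by
  have := R.add r hr hS 0 0
  simpa using this

theorem X_neg (r : ℕ) (hr : r < D.nroots) (hS : S r) (t : K) : X r (-t) = (X r t)⁻¹ := by
  apply eq_inv_of_mul_eq_one_left
  rw [← R.add r hr hS, neg_add_cancel, R.X_zero r hr hS]

end RelsOn

theorem good_consOn (R : RelsOn D X S) (r : ℕ) (hrn : r < D.nroots) (hrS : S r) (L : List ℕ)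
    (hLn : ∀ s ∈ L, s < D.nroots ∧ S s)
    (hr : r ∉ L) (hnr : D.neg r ∉ L) (hG : Good X L)
    (hterms : ∀ s ∈ L, ∀ c ∈ D.commTerms r s, c.1 ∈ L) : Good X (r :: L) := by
  intro s hs0 u t
  rw [pwG_cons]
  rcases List.mem_cons.mp hs0 with hsr0 | hs
  · subst hsr0
    refine ⟨Function.update t s (u + t s), ?_⟩
    rw [pwG_cons, ← mul_assoc, ← R.add s hrn hrS, Function.update_self]
    congr 1
    apply pwG_congr
    intro x hx
    rw [Function.update_of_ne]
    rintro rfl
    exact hr hx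
  · have hsr : s ≠ r := fun e => hr (e ▸ hs)
    have hsn : s ≠ D.neg r := fun e => hnr (e ▸ hs)
    have h1 := R.comm r s hrn (hLn s hs).1 hrS (hLn s hs).2 hsr hsn (t r) u
    have hw : ∀ e ∈ D.commWord K r s (t r) u, e.1 ∈ L := by
      intro e he
      unfold ChevalleyDatum.commWord at he
      obtain ⟨c, hc, rfl⟩ := List.mem_map.mp he
      exact hterms s hs c hc
    obtain ⟨t1, e1⟩ := good_word hG _ hw t
    obtain ⟨t2, e2⟩ := hG s hs u t1
    refine ⟨Function.update t2 r (t r), ?_⟩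
    rw [← mul_assoc, h1, mul_assoc, mul_assoc, e1, e2, pwG_cons, Function.update_self]
    congr 1
    apply pwG_congr
    intro x hx
    rw [Function.update_of_ne]
    rintro rfl
    exact hr hx

theorem good_of_suffixOn (R : RelsOn D X S) (φ : ℕ → ℤ) (P : List ℕ) (hP : P.Pairwise (fun a b => φ a < φ b))
    (hPn : ∀ s ∈ P, s < D.nroots ∧ S s ∧ D.neg s ∉ P)
    (H : ∀ r ∈ P, ∀ s ∈ P, φ r < φ s → ∀ c ∈ D.commTerms r s, c.1 ∈ P ∧ φ r < φ c.1)
    (L : List ℕ) (hL : L <:+ P) : Good X L := by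
  induction L with
  | nil => intro s hs; cases hs
  | cons r L ih =>
    have hL' : L <:+ P := (List.suffix_cons r L).trans hL
    have hsub : (r :: L).Pairwise (fun a b => φ a < φ b) := hP.sublist hL.sublist
    rw [List.pairwise_cons] at hsub
    have hrP : r ∈ P := hL.subset List.mem_cons_self
    apply good_consOn R r (hPn r hrP).1 (hPn r hrP).2.1 L
      (fun s hs => ⟨(hPn s (hL'.subset hs)).1, (hPn s (hL'.subset hs)).2.1⟩) _ _ (ih hL')
    · intro s hs c hc
      obtain ⟨h1, h2⟩ := H r hrP s (hL'.subset hs) (hsub.1 s hs) c hc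
      exact mem_of_suffix_of_lt' hP hL h1 h2
    · intro hr
      have := hsub.1 r hr
      omega
    · intro hnr
      exact (hPn r hrP).2.2 (hL'.subset hnr)

/-- every element of the subgroup generated by the root elements of a good list is an ordered product -/
theorem exists_pwGOn (R : RelsOn D X S) (L : List ℕ) (hLn : ∀ s ∈ L, s < D.nroots ∧ S s) (hG : Good X L) (g : Γ)
    (hg : g ∈ Subgroup.closure {g | ∃ a ∈ L, ∃ t : K, g = X a t}) : ∃ t : ℕ → K, g = pwG X L t := by
  induction hg using Subgroup.closure_induction_left with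
  | one =>
    refine ⟨fun _ => 0, ?_⟩
    unfold pwG
    symm
    apply List.prod_eq_one
    intro x hx
    obtain ⟨a, ha, rfl⟩ := List.mem_map.mp hx
    exact R.X_zero a (hLn a ha).1 (hLn a ha).2
  | mul_left x hx y _ ih =>
    obtain ⟨a, ha, t, rfl⟩ := hx
    obtain ⟨t0, rfl⟩ := ih
    obtain ⟨t', ht'⟩ := hG a ha t t0
    exact ⟨t', ht'⟩
  | inv_mul_cancel x hx y _ ih =>
    obtain ⟨a, ha, t, rfl⟩ := hx
    obtain ⟨t0, rfl⟩ := ih
    rw [← R.X_neg a (hLn a ha).1 (hLn a ha).2]
    obtain ⟨t', ht'⟩ := hG a ha (-t) t0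
    exact ⟨t', ht'⟩

end

/-! ### the positive part of a closed set of roots -/

/-- the roots of `S` with `φ > 0`, sorted by `φ` -/
noncomputable def posListOn (D : ChevalleyDatum) (S : ℕ → Prop) (φ : ℕ → ℤ) : List ℕ :=
  (posList D φ).filter fun a => @decide (S a) (Classical.propDecidable _)

theorem mem_posListOn (D : ChevalleyDatum) (S : ℕ → Prop) (φ : ℕ → ℤ) (a : ℕ) :
    a ∈ posListOn D S φ ↔ a < D.nroots ∧ 0 < φ a ∧ S a := by
  unfold posListOn
  rw [List.mem_filter, mem_posList]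
  constructor
  · rintro ⟨⟨h1, h2⟩, h3⟩
    exact ⟨h1, h2, @of_decide_eq_true _ (Classical.propDecidable _) h3⟩
  · rintro ⟨h1, h2, h3⟩
    exact ⟨⟨h1, h2⟩, @decide_eq_true _ (Classical.propDecidable _) h3⟩

theorem posListOn_sorted {D : ChevalleyDatum} (S : ℕ → Prop) {φ : ℕ → ℤ} (h : Reg D φ) :
    (posListOn D S φ).Pairwise (fun a b => φ a < φ b) :=
  (posList_sorted h).sublist List.filter_sublist

section
variable {K : Type*} [Field K] {D : ChevalleyDatum} {Γ : Type*} [Group Γ] {X : ℕ → K → Γ} {S : ℕ → Prop}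

theorem good_posListOn (hD : D ∈ [chevG2, chevB2, chevD4, chevF4, chevE6, chevE7, chevE8]) (R : RelsOn D X S)
    (hS : ClosedOn D S) {φ : ℕ → ℤ} (h : Reg D φ) : Good X (posListOn D S φ) := by
  apply good_of_suffixOn R φ (posListOn D S φ) (posListOn_sorted S h) _ _ _ List.suffix_rfl
  · intro s hs
    rw [mem_posListOn] at hs
    refine ⟨hs.1, hs.2.2, ?_⟩
    intro hn
    rw [mem_posListOn] at hn
    have := (h.add s hs.1).1
    omega
  · intro r hr s hs hrs c hc
    rw [mem_posListOn] at hr hs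
    obtain ⟨h1, h2, h3, h4⟩ := commTerms_lvl D hD φ h.add r s hr.1 hs.1 c hc
    have h5 : φ r < φ c.1 := by
      rw [h2]
      have : (1 : ℤ) ≤ (c.2.2.1 : ℤ) := by exact_mod_cast h3
      have : (1 : ℤ) ≤ (c.2.2.2 : ℤ) := by exact_mod_cast h4
      nlinarith
    refine ⟨?_, h5⟩
    rw [mem_posListOn]
    exact ⟨h1, by omega, hS r s hr.1 hs.1 hr.2.2 hs.2.2 c hc⟩

/-- the unipotent subgroup of the positive part `{a ∈ S, φ a > 0}` -/
def UGon (D : ChevalleyDatum) (X : ℕ → K → Γ) (S : ℕ → Prop) (φ : ℕ → ℤ) : Subgroup Γ :=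
  Subgroup.closure {g | ∃ a < D.nroots, S a ∧ 0 < φ a ∧ ∃ t : K, g = X a t}

theorem X_mem_UGon (φ : ℕ → ℤ) (a : ℕ) (ha : a < D.nroots) (hS : S a) (hp : 0 < φ a) (t : K) :
    X a t ∈ UGon D X S φ :=
  Subgroup.subset_closure ⟨a, ha, hS, hp, t, rfl⟩

theorem UGon_mono {S' : ℕ → Prop} {f g : ℕ → ℤ} (h : ∀ u < D.nroots, S u → 0 < f u → S' u ∧ 0 < g u) :
    UGon D X S f ≤ UGon D X S' g := by
  unfold UGon
  apply Subgroup.closure_mono
  rintro x ⟨a, ha, hS, hfa, t, rfl⟩
  exact ⟨a, ha, (h a ha hS hfa).1, (h a ha hS hfa).2, t, rfl⟩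

/-- every element of the subgroup generated by the root elements of the positive part is an ordered product -/
theorem exists_pwG_posListOn (hD : D ∈ [chevG2, chevB2, chevD4, chevF4, chevE6, chevE7, chevE8]) (R : RelsOn D X S)
    (hS : ClosedOn D S) {φ : ℕ → ℤ} (h : Reg D φ) (g : Γ) (hg : g ∈ UGon D X S φ) :
    ∃ t : ℕ → K, g = pwG X (posListOn D S φ) t := by
  apply exists_pwGOn R (posListOn D S φ)
    (fun s hs => ⟨((mem_posListOn D S φ s).mp hs).1, ((mem_posListOn D S φ s).mp hs).2.2⟩) (good_posListOn hD R hS h)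
  have : {g | ∃ a < D.nroots, S a ∧ 0 < φ a ∧ ∃ t : K, g = X a t} =
      {g | ∃ a ∈ posListOn D S φ, ∃ t : K, g = X a t} := by
    ext g
    constructor
    · rintro ⟨a, ha, hSa, hp, t, rfl⟩
      exact ⟨a, (mem_posListOn D S φ a).mpr ⟨ha, hp, hSa⟩, t, rfl⟩
    · rintro ⟨a, ha, t, rfl⟩
      rw [mem_posListOn] at ha
      exact ⟨a, ha.1, ha.2.2, ha.2.1, t, rfl⟩
  rw [← this]
  exact hg

/-- root elements satisfying (A), (B) on `S` and lying over the Chevalley group on `S` -/
structure OverOn (D : ChevalleyDatum) (hadd : Cfsg.Agent.Helper40.ChevAdd.addOK D = true) (X : ℕ → K → Γ) (π : Γ →* GL D.Idx K)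
    (S : ℕ → Prop) : Prop extends RelsOn D X S where
  π_X : ∀ r < D.nroots, S r → ∀ t : K, π (X r t) = xGL D hadd K r t

variable {hadd : Cfsg.Agent.Helper40.ChevAdd.addOK D = true} {π : Γ →* GL D.Idx K}

theorem overOn_of_over (O : Over D hadd X π) (S : ℕ → Prop) : OverOn D hadd X π S where
  toRelsOn := relsOn_of_rels O.toRels S
  π_X := fun r hr _ t => O.π_X r hr t

theorem OverOn.mono {S' : ℕ → Prop} (O : OverOn D hadd X π S) (h : ∀ r, S' r → S r) : OverOn D hadd X π S' where
  toRelsOn := O.toRelsOn.mono h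
  π_X := fun r hr hS t => O.π_X r hr (h r hS) t

theorem π_pwGOn (O : OverOn D hadd X π S) (L : List ℕ) (hL : ∀ s ∈ L, s < D.nroots ∧ S s) (t : ℕ → K) :
    π (pwG X L t) = pwGL D hadd L t := by
  induction L with
  | nil => simp [pwG, pwGL]
  | cons r L ih =>
    rw [pwG_cons, pwGL_cons, map_mul, O.π_X r (hL r List.mem_cons_self).1 (hL r List.mem_cons_self).2,
      ih (fun s hs => hL s (List.mem_cons_of_mem _ hs))]

/-- the transfer principle on the positive part of a closed set of roots -/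
theorem transferOn (hD : D ∈ [chevG2, chevB2, chevD4, chevF4, chevE6, chevE7, chevE8]) (O : OverOn D hadd X π S)
    (hS : ClosedOn D S) {φ : ℕ → ℤ} (h : Reg D φ) (g g' : Γ) (hg : g ∈ UGon D X S φ) (hg' : g' ∈ UGon D X S φ)
    (he : π g = π g') : g = g' := by
  obtain ⟨t, rfl⟩ := exists_pwG_posListOn hD O.toRelsOn hS h g hg
  obtain ⟨t', rfl⟩ := exists_pwG_posListOn hD O.toRelsOn hS h g' hg'
  have hLn : ∀ s ∈ posListOn D S φ, s < D.nroots ∧ S s :=
    fun s hs => ⟨((mem_posListOn D S φ s).mp hs).1, ((mem_posListOn D S φ s).mp hs).2.2⟩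
  rw [π_pwGOn O _ hLn, π_pwGOn O _ hLn] at he
  have he' : pw D (posListOn D S φ) t = pw D (posListOn D S φ) t' := by
    rw [← pwGL_val D hadd, ← pwGL_val D hadd, he]
  have := pw_inj' (witOK_of_mem hD) h.add hadd (posListOn D S φ)
    (fun s hs => ⟨((mem_posListOn D S φ s).mp hs).1, ((mem_posListOn D S φ s).mp hs).2.1⟩)
    (posListOn_sorted S h) t t' he'
  exact pwG_congr _ _ _ this

end

end Cfsg.Agent.Helper19.CT
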