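import Cfsg.Agent.Helper19.CT.Closure
import Cfsg.Agent.Helper19.CT.RelsOn
import Cfsg.Agent.Helper40.StPres3

/-!
helper19 (S1164, Curtis–Tits presentation): the generators `gen r t` of the Curtis–Tits group, their relations, the
evident homomorphism `toSt` to the group of Steinberg's presentation and the projection `piCT` to the Chevalley group.
-/

set_option autoImplicit false
set_option linter.unusedSectionVars false

namespace Cfsg.Agent.Helper19.CT

open Cfsg Cfsg.Lie Cfsg.Agent.Helper18 Cfsg.Agent.Helper40.St Cfsg.Agent.Helper40.ChevAdd Cfsg.Agent.Helper40.UProd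
  Cfsg.Agent.Helper40.SL2Hom

section
variable (D : ChevalleyDatum) (K : Type*) [Field K]

/-- the generator `x̂_r(t)` of the Curtis–Tits group -/
def gen (r : ℕ) (t : K) : D.CurtisTitsGroup K := PresentedGroup.mk (D.curtisTitsRels K) (D.stX r t)

/-- the root `r` lies in some standard subsystem of rank at most two -/
def R2 (r : ℕ) : Prop := ∃ i j, D.InRankTwoSub i j r

/-- `n̂_i = x̂_{a_i}(1) x̂_{-a_i}(-1) x̂_{a_i}(1)` -/
def nhat (i : ℕ) : D.CurtisTitsGroup K := nbar D (gen D K) (D.simple i) 1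

variable {D}

theorem R2.lt {r : ℕ} (h : R2 D r) : r < D.nroots := by
  obtain ⟨i, j, h⟩ := h
  exact h.1

variable {K}

theorem wordG_congr {Γ : Type*} [Group Γ] {X Y : ℕ → K → Γ} (w : List (ℕ × K))
    (h : ∀ e ∈ w, X e.1 e.2 = Y e.1 e.2) : wordG X w = wordG Y w := by
  unfold wordG
  congr 1
  apply List.map_congr_left
  intro e he
  exact h e he

variable (K)

theorem gen_of_ge (r : ℕ) (hr : ¬ r < D.nroots) (t : K) : gen D K r t = 1 := by
  unfold gen ChevalleyDatum.stX
  rw [dif_neg hr, map_one]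

/-- (CT0) -/
theorem gen_eq_one (r : ℕ) (h : ¬ R2 D r) (t : K) : gen D K r t = 1 := by
  by_cases hr : r < D.nroots
  · apply PresentedGroup.one_of_mem
    left; left; left
    exact ⟨r, t, hr, fun i j hij => h ⟨i, j, hij⟩, rfl⟩
  · exact gen_of_ge K r hr t

/-- (CT1) -/
theorem gen_add (r : ℕ) (h : R2 D r) (t u : K) : gen D K r (t + u) = gen D K r t * gen D K r u := by
  obtain ⟨i, j, hij⟩ := h
  unfold gen
  rw [← map_mul]
  symm
  apply PresentedGroup.mk_eq_mk_of_mul_inv_mem
  left; left; right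
  exact ⟨i, j, r, t, u, hij, rfl⟩

theorem mk_stWord_gen (wd : List (ℕ × K)) :
    PresentedGroup.mk (D.curtisTitsRels K) (D.stWord wd) = wordG (gen D K) wd :=
  mk_stWord (D.curtisTitsRels K) wd

/-- (CT2) -/
theorem gen_comm (i j r s : ℕ) (hr : D.InRankTwoSub i j r) (hs : D.InRankTwoSub i j s) (h1 : s ≠ r)
    (h2 : s ≠ D.neg r) (t u : K) :
    gen D K s u * gen D K r t = gen D K r t * gen D K s u * wordG (gen D K) (D.commWord K r s t u) := by
  have hrel : (D.stX s u)⁻¹ * (D.stX r t)⁻¹ * D.stX s u * D.stX r t * (D.stWord (D.commWord K r s t u))⁻¹ ∈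
      D.curtisTitsRels K := by
    left; right
    exact ⟨i, j, r, s, t, u, hr, hs, h1, h2, rfl⟩
  have h3 := PresentedGroup.mk_eq_mk_of_mul_inv_mem hrel
  rw [← mk_stWord_gen, ← h3]
  unfold gen
  simp only [map_mul, map_inv]
  group

/-- the relations (A), (B) on a standard subsystem of rank at most two -/
theorem relsOn_gen (i j : ℕ) : RelsOn D (gen D K) (D.InRankTwoSub i j) where
  add := fun r _ hS t u => gen_add K r ⟨i, j, hS⟩ t u
  comm := fun r s _ _ hSr hSs h1 h2 t u => gen_comm K i j r s hSr hSs h1 h2 t u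

/-- `ĥ_r(t) = n̂_r(t) n̂_r(-1)` -/
def hhat (D : ChevalleyDatum) (K : Type*) [Field K] (r : ℕ) (t : K) : D.CurtisTitsGroup K :=
  nbar D (gen D K) r t * nbar D (gen D K) r (-1)

theorem mk_stH_gen (r : ℕ) (t : K) : PresentedGroup.mk (D.curtisTitsRels K) (D.stH r t) = hhat D K r t :=
  mk_stH (D.curtisTitsRels K) r t

/-- (CT3) -/
theorem hhat_mul (r : ℕ) (h : R2 D r) (t u : K) (ht : t ≠ 0) (hu : u ≠ 0) :
    hhat D K r t * hhat D K r u = hhat D K r (t * u) := by
  obtain ⟨i, j, hij⟩ := h
  rw [← mk_stH_gen, ← mk_stH_gen, ← mk_stH_gen, ← map_mul]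
  apply PresentedGroup.mk_eq_mk_of_mul_inv_mem
  right
  exact ⟨i, j, r, t, u, hij, ht, hu, rfl⟩

end

/-! ### the homomorphism to the group of Steinberg's presentation -/

section
variable {D : ChevalleyDatum} (hD : D ∈ [chevD4, chevF4, chevE6, chevE7, chevE8]) (K : Type*) [Field K]

/-- `x̄_r(t)` for `r` in a standard subsystem of rank at most two, `1` otherwise -/
noncomputable def stF (D : ChevalleyDatum) (K : Type*) [Field K] (r : ℕ) (t : K) : D.SteinbergGroup K :=
  @ite _ (R2 D r) (Classical.propDecidable _) (D.stGen K r t) 1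

theorem stF_of_R2 {r : ℕ} (h : R2 D r) (t : K) : stF D K r t = D.stGen K r t := by
  unfold stF
  rw [if_pos h]

noncomputable def stFun (D : ChevalleyDatum) (K : Type*) [Field K] : Fin D.nroots × K → D.SteinbergGroup K :=
  fun p => stF D K p.1.val p.2

theorem lift_stFun_stX (r : ℕ) (t : K) : FreeGroup.lift (stFun D K) (D.stX r t) = stF D K r t := by
  unfold ChevalleyDatum.stX
  by_cases hr : r < D.nroots
  · rw [dif_pos hr, FreeGroup.lift_apply_of]
    rfl
  · rw [dif_neg hr, map_one]
    unfold stF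
    rw [if_neg (fun h => hr h.lt)]

theorem lift_stFun_stWord (w : List (ℕ × K)) : FreeGroup.lift (stFun D K) (D.stWord w) = wordG (stF D K) w := by
  unfold ChevalleyDatum.stWord wordG
  rw [map_list_prod, List.map_map]
  congr 1
  apply List.map_congr_left
  intro p _
  exact lift_stFun_stX K p.1 p.2

include hD

theorem stOver : Over D (addOK_of_mem (mem7_of_mem5 hD)) (fun r t => D.stGen K r t)
    (PresentedGroup.toGroup (lift_rels D (addOK_of_mem (mem7_of_mem5 hD)) (mem7_of_mem5 hD))) :=
  over_presented (addOK_of_mem (mem7_of_mem5 hD)) (D.steinbergRels K) (relsAB_subset D)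
    (lift_rels D (addOK_of_mem (mem7_of_mem5 hD)) (mem7_of_mem5 hD))

theorem lift_stFun_rels : ∀ g ∈ D.curtisTitsRels K, FreeGroup.lift (stFun D K) g = 1 := by
  have O := stOver hD K
  intro g hg
  rcases hg with ((⟨r, t, hr, hn, rfl⟩ | ⟨i, j, r, t₁, t₂, hij, rfl⟩) | ⟨i, j, r, s, t, u, hr, hs, h1, h2, rfl⟩) |
    ⟨i, j, r, t₁, t₂, hij, h1, h2, rfl⟩
  · rw [lift_stFun_stX]
    unfold stF
    rw [if_neg]
    rintro ⟨i, j, hij⟩
    exact hn i j hij
  · have hR : R2 D r := ⟨i, j, hij⟩
    rw [map_mul, map_mul, map_inv, lift_stFun_stX, lift_stFun_stX, lift_stFun_stX, stF_of_R2 K hR, stF_of_R2 K hR,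
      stF_of_R2 K hR, O.add r hij.1 t₁ t₂, mul_inv_cancel]
  · rw [map_mul, map_mul, map_mul, map_mul, map_inv, map_inv, map_inv, lift_stFun_stX, lift_stFun_stX,
      lift_stFun_stWord, stF_of_R2 K ⟨i, j, hr⟩, stF_of_R2 K ⟨i, j, hs⟩]
    have hw : wordG (stF D K) (D.commWord K r s t u) = wordG (fun r t => D.stGen K r t) (D.commWord K r s t u) := by
      apply wordG_congr
      intro e he
      unfold ChevalleyDatum.commWord at he
      obtain ⟨c, hc, rfl⟩ := List.mem_map.mp he
      exact stF_of_R2 K ⟨i, j, inRankTwoSub_commTerms hD hr hs c hc⟩ _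
    rw [hw]
    have e := O.comm r s hr.1 hs.1 h1 h2 t u
    rw [mul_assoc _ (D.stGen K s u), e]
    group
  · have hR : R2 D r := ⟨i, j, hij⟩
    have hN : R2 D (D.neg r) := ⟨i, j, inRankTwoSub_neg hD hij⟩
    have key : ∀ t : K, FreeGroup.lift (stFun D K) (D.stH r t) =
        PresentedGroup.mk (D.steinbergRels K) (D.stH r t) := by
      intro t
      unfold ChevalleyDatum.stH
      rw [lift_stFun_stWord, mk_stWord]
      apply wordG_congr
      intro e he
      unfold ChevalleyDatum.hWord ChevalleyDatum.nWord at he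
      simp only [List.cons_append, List.nil_append, List.mem_cons, List.not_mem_nil, or_false] at he
      rcases he with rfl | rfl | rfl | rfl | rfl | rfl
      · exact stF_of_R2 K hR _
      · exact stF_of_R2 K hN _
      · exact stF_of_R2 K hR _
      · exact stF_of_R2 K hR _
      · exact stF_of_R2 K hN _
      · exact stF_of_R2 K hR _
    rw [map_mul, map_mul, map_inv, key, key, key, ← map_inv, ← map_mul, ← map_mul]
    apply PresentedGroup.one_of_mem
    right
    exact ⟨r, t₁, t₂, hij.1, h1, h2, rfl⟩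

/-- the evident homomorphism from the Curtis–Tits group to the group of Steinberg's presentation -/
noncomputable def toSt : D.CurtisTitsGroup K →* D.SteinbergGroup K := PresentedGroup.toGroup (lift_stFun_rels hD K)

theorem toSt_mk (g : FreeGroup (Fin D.nroots × K)) :
    toSt hD K (PresentedGroup.mk (D.curtisTitsRels K) g) = FreeGroup.lift (stFun D K) g := rfl

theorem toSt_gen (r : ℕ) (h : R2 D r) (t : K) : toSt hD K (gen D K r t) = D.stGen K r t := by
  unfold gen
  rw [toSt_mk, lift_stFun_stX, stF_of_R2 K h]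

/-- the projection of the Curtis–Tits group to the Chevalley group -/
noncomputable def piCT : D.CurtisTitsGroup K →* GL D.Idx K :=
  (PresentedGroup.toGroup (lift_rels D (addOK_of_mem (mem7_of_mem5 hD)) (mem7_of_mem5 hD))).comp (toSt hD K)

theorem piCT_eq (g : D.CurtisTitsGroup K) :
    piCT hD K g = PresentedGroup.toGroup (lift_rels D (addOK_of_mem (mem7_of_mem5 hD)) (mem7_of_mem5 hD)) (toSt hD K g) :=
  rfl

theorem piCT_gen (r : ℕ) (h : R2 D r) (t : K) :
    piCT hD K (gen D K r t) = xGL D (addOK_of_mem (mem7_of_mem5 hD)) K r t := by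
  rw [piCT_eq, toSt_gen hD K r h]
  exact (stOver hD K).π_X r h.lt t

/-- the generators of a standard subsystem of rank at most two lie over the Chevalley group -/
theorem overOn_gen (i j : ℕ) :
    OverOn D (addOK_of_mem (mem7_of_mem5 hD)) (gen D K) (piCT hD K) (D.InRankTwoSub i j) where
  toRelsOn := relsOn_gen K i j
  π_X := fun r _ hS t => piCT_gen hD K r ⟨i, j, hS⟩ t

/-- the standard subsystems of rank at most two are closed under the commutator formula -/
theorem closedOn_inRankTwoSub (i j : ℕ) : ClosedOn D (D.InRankTwoSub i j) :=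
  fun _ _ _ _ hr hs c hc => inRankTwoSub_commTerms hD hr hs c hc

end

end Cfsg.Agent.Helper19.CT
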