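import Cfsg.Agent.Helper19.CT.Iface

/-!
helper19 (S1164, Curtis–Tits presentation): the abstract extension theorem. Given elements `n j` of a group, subgroups
`Z r` for the roots `r` of the standard subsystems of rank at most two, permuted by the `n j` inside these subsystems,
the braid relations for the `n j` modulo the subgroup `T` generated by their squares, and `T` normalized by the `n j`,
there is a family of subgroups `X r` for all the roots, extending `Z` and permuted by the `n j`.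
-/

set_option autoImplicit false
set_option linter.unusedSectionVars false

namespace Cfsg.Agent.Helper19.CT

open Pointwise

section Conj
variable {Γ : Type*} [Group Γ]

/-- the conjugate `a H a⁻¹` -/
def cj (a : Γ) (H : Subgroup Γ) : Subgroup Γ := MulAut.conj a • H

theorem mem_cj {a g : Γ} {H : Subgroup Γ} : g ∈ cj a H ↔ a⁻¹ * g * a ∈ H := by
  unfold cj
  rw [Subgroup.mem_pointwise_smul_iff_inv_smul_mem, MulAut.smul_def, ← map_inv, MulAut.conj_apply, inv_inv]

theorem cj_mul (a b : Γ) (H : Subgroup Γ) : cj (a * b) H = cj a (cj b H) := by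
  unfold cj
  rw [map_mul, mul_smul]

theorem cj_one (H : Subgroup Γ) : cj 1 H = H := by
  unfold cj
  rw [map_one, one_smul]

theorem cj_inv_cj (a : Γ) (H : Subgroup Γ) : cj a⁻¹ (cj a H) = H := by
  rw [← cj_mul, inv_mul_cancel, cj_one]

theorem cj_cj_inv (a : Γ) (H : Subgroup Γ) : cj a (cj a⁻¹ H) = H := by
  rw [← cj_mul, mul_inv_cancel, cj_one]

/-- the elements normalizing `H` -/
def stabS (H : Subgroup Γ) : Subgroup Γ where
  carrier := {z | cj z H = H}
  one_mem' := cj_one H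
  mul_mem' := by
    intro a b ha hb
    show cj (a * b) H = H
    rw [cj_mul, show cj b H = H from hb, show cj a H = H from ha]
  inv_mem' := by
    intro a ha
    show cj a⁻¹ H = H
    have h : cj a H = H := ha
    conv_lhs => rw [← h]
    exact cj_inv_cj a H

theorem mem_stabS {z : Γ} {H : Subgroup Γ} : z ∈ stabS H ↔ cj z H = H := Iff.rfl

end Conj

section Family
variable {Γ : Type*} [Group Γ] {N l : ℕ} {σ : ℕ → ℕ → ℕ} {lv : ℕ → ℕ} {P : ℕ → ℕ → ℕ → Prop} {m : ℕ → ℕ → ℕ}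
  (C : Comb N l σ lv P m) (d : ℕ → ℕ)
  (hd : ∀ r < N, 2 ≤ lv r → d r < l ∧ lv (σ (d r) r) < lv r ∧ ((∃ j k, P j k r) → ∃ k, P (d r) k r))
  (n : ℕ → Γ) (Z : ℕ → Subgroup Γ)

/-- the subgroup generated by the squares of the `n j` -/
def Tsq (l : ℕ) (n : ℕ → Γ) : Subgroup Γ := Subgroup.closure {g | ∃ j < l, g = n j * n j}

/-- the extended family: `X r = n_d X (σ_d r) n_d⁻¹` for the designated descent `d` of `r` -/
noncomputable def XF (N : ℕ) (σ : ℕ → ℕ → ℕ) (lv : ℕ → ℕ) (d : ℕ → ℕ) (n : ℕ → Γ) (Z : ℕ → Subgroup Γ) (r : ℕ) :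
    Subgroup Γ :=
  if h : r < N ∧ 2 ≤ lv r ∧ lv (σ (d r) r) < lv r then cj (n (d r)) (XF N σ lv d n Z (σ (d r) r)) else Z r
termination_by lv r
decreasing_by exact h.2.2

theorem XF_low (r : ℕ) (h : lv r ≤ 1) : XF N σ lv d n Z r = Z r := by
  rw [XF, dif_neg]
  rintro ⟨-, h2, -⟩
  omega

include hd in
theorem XF_high (r : ℕ) (hr : r < N) (h : 2 ≤ lv r) :
    XF N σ lv d n Z r = cj (n (d r)) (XF N σ lv d n Z (σ (d r) r)) := by
  rw [XF, dif_pos ⟨hr, h, (hd r hr h).2.1⟩]

variable (hZ : ∀ j k r, P j k r → cj (n j) (Z r) = Z (σ j r))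
  (hT : ∀ j < l, ∀ k < l, (n k)⁻¹ * (n j * n j) * n k ∈ Tsq l n)
  (hB : ∀ j < l, ∀ k < l, j ≠ k → ∃ z ∈ Tsq l n, alt (m j k) (n j) (n k) = alt (m j k) (n k) (n j) * z)

include C hd hZ in
/-- (I) the family extends `Z` -/
theorem XF_eq_Z : ∀ (L : ℕ) (r : ℕ), r < N → lv r ≤ L → (∃ j k, P j k r) → XF N σ lv d n Z r = Z r := by
  intro L
  induction L with
  | zero =>
    intro r _ hL _
    exact XF_low d n Z r (by omega)
  | succ L ih =>
    intro r hr hL hP
    by_cases h1 : lv r ≤ 1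
    · exact XF_low d n Z r h1
    · have h2 : 2 ≤ lv r := by omega
      obtain ⟨hdl, hdlv, hdP⟩ := hd r hr h2
      obtain ⟨k, hk⟩ := hdP hP
      have hk' := C.P_σ _ _ _ hk
      have hlt := C.σ_lt _ hdl r hr
      rw [XF_high d hd n Z r hr h2, ih _ hlt (by omega) ⟨_, _, hk'⟩, hZ _ _ _ hk', C.σ_invol _ hdl r hr]

include hT in
/-- `T` is normalized by the `n k` -/
theorem Tsq_conj (k : ℕ) (hk : k < l) (z : Γ) (hz : z ∈ Tsq l n) : (n k)⁻¹ * z * n k ∈ Tsq l n := by
  unfold Tsq at hz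
  induction hz using Subgroup.closure_induction with
  | mem x hx =>
    obtain ⟨j, hj, rfl⟩ := hx
    exact hT j hj k hk
  | one =>
    rw [mul_one, inv_mul_cancel]
    exact Subgroup.one_mem _
  | mul x y _ _ hx hy =>
    have : (n k)⁻¹ * (x * y) * n k = ((n k)⁻¹ * x * n k) * ((n k)⁻¹ * y * n k) := by group
    rw [this]
    exact Subgroup.mul_mem _ hx hy
  | inv x _ hx =>
    have : (n k)⁻¹ * x⁻¹ * n k = ((n k)⁻¹ * x * n k)⁻¹ := by group
    rw [this]
    exact Subgroup.inv_mem _ hx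

include C hd hZ hT in
/-- (TN) `T` normalizes the members of the family -/
theorem XF_TN : ∀ (L : ℕ) (r : ℕ), r < N → lv r ≤ L → ∀ z ∈ Tsq l n, cj z (XF N σ lv d n Z r) = XF N σ lv d n Z r := by
  intro L
  induction L with
  | zero =>
    intro r hr hL z hz
    have hlow : lv r ≤ 1 := by omega
    rw [XF_low d n Z r hlow]
    have : Tsq l n ≤ stabS (Z r) := by
      unfold Tsq
      rw [Subgroup.closure_le]
      rintro x ⟨j, hj, rfl⟩
      obtain ⟨k, hk⟩ := C.base r hr hlow j hj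
      have hk' := C.P_σ _ _ _ hk
      show cj (n j * n j) (Z r) = Z r
      rw [cj_mul, hZ _ _ _ hk, hZ _ _ _ hk', C.σ_invol _ hj r hr]
    exact this hz
  | succ L ih =>
    intro r hr hL z hz
    by_cases h1 : lv r ≤ 1
    · rw [XF_low d n Z r h1]
      have : Tsq l n ≤ stabS (Z r) := by
        unfold Tsq
        rw [Subgroup.closure_le]
        rintro x ⟨j, hj, rfl⟩
        obtain ⟨k, hk⟩ := C.base r hr h1 j hj
        have hk' := C.P_σ _ _ _ hk
        show cj (n j * n j) (Z r) = Z r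
        rw [cj_mul, hZ _ _ _ hk, hZ _ _ _ hk', C.σ_invol _ hj r hr]
      exact this hz
    · have h2 : 2 ≤ lv r := by omega
      obtain ⟨hdl, hdlv, -⟩ := hd r hr h2
      have hlt := C.σ_lt _ hdl r hr
      rw [XF_high d hd n Z r hr h2, ← cj_mul]
      have e : z * n (d r) = n (d r) * ((n (d r))⁻¹ * z * n (d r)) := by group
      rw [e, cj_mul, ih _ hlt (by omega) _ (Tsq_conj n hT _ hdl z hz)]


include C hd hZ hT hB in
/-- (β) the ascending case -/
theorem XF_beta (M : ℕ)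
    (IH : ∀ j < l, ∀ r < N, lv r < M → lv (σ j r) < M →
      cj (n j) (XF N σ lv d n Z r) = XF N σ lv d n Z (σ j r))
    (j : ℕ) (hj : j < l) (r : ℕ) (hr : r < N) (hlt : lv r < lv (σ j r)) (hM : lv (σ j r) ≤ M) :
    cj (n j) (XF N σ lv d n Z r) = XF N σ lv d n Z (σ j r) := by
  have hr' := C.σ_lt j hj r hr
  have hinv := C.σ_invol j hj r hr
  by_cases h1 : lv (σ j r) ≤ 1
  · obtain ⟨k, hk⟩ := C.base r hr (by omega) j hj
    have hk' := C.P_σ _ _ _ hk
    rw [XF_eq_Z C d hd n Z hZ _ r hr le_rfl ⟨_, _, hk⟩, XF_eq_Z C d hd n Z hZ _ _ hr' le_rfl ⟨_, _, hk'⟩,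
      hZ _ _ _ hk]
  · have h2 : 2 ≤ lv (σ j r) := by omega
    obtain ⟨hdl, hdlv, -⟩ := hd _ hr' h2
    by_cases hdj : d (σ j r) = j
    · rw [XF_high d hd n Z _ hr' h2, hdj, hinv]
    · have hjk : j ≠ d (σ j r) := fun e => hdj e.symm
      have hdescj : lv (σ j (σ j r)) < lv (σ j r) := by rw [hinv]; exact hlt
      by_cases hP : P j (d (σ j r)) (σ j r)
      · have hP' := C.P_σ _ _ _ hP
        rw [hinv] at hP'
        rw [XF_eq_Z C d hd n Z hZ _ r hr le_rfl ⟨_, _, hP'⟩, XF_eq_Z C d hd n Z hZ _ _ hr' le_rfl ⟨_, _, hP⟩,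
          hZ _ _ _ hP']
      · rcases C.m_cases j hj _ hdl hjk with hm | hm | hm
        · obtain ⟨a1, a2, a3⟩ := C.A2 j hj _ hdl hjk _ hr' hm hP hdescj hdlv
          rw [hinv] at a1 a3
          have hkr' := C.σ_lt _ hdl _ hr'
          have hs := C.σ_lt j hj _ hkr'
          have e1 : cj (n j) (XF N σ lv d n Z (σ j (σ (d (σ j r)) (σ j r)))) =
              XF N σ lv d n Z (σ (d (σ j r)) (σ j r)) := by
            have := IH j hj _ hs (by omega) (by rw [C.σ_invol j hj _ hkr']; omega)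
            rw [this, C.σ_invol j hj _ hkr']
          have hkr := C.σ_lt _ hdl r hr
          have e2 : cj (n (d (σ j r))) (XF N σ lv d n Z (σ (d (σ j r)) r)) = XF N σ lv d n Z r := by
            have := IH _ hdl _ hkr (by omega) (by rw [C.σ_invol _ hdl r hr]; omega)
            rw [this, C.σ_invol _ hdl r hr]
          obtain ⟨z, hz, hb⟩ := hB j hj _ hdl hjk
          rw [hm] at hb
          simp only [alt, mul_one] at hb
          rw [XF_high d hd n Z _ hr' h2, ← e1, ← e2, a1, ← cj_mul, ← cj_mul, hb, cj_mul _ z,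
            XF_TN C d hd n Z hZ hT _ _ hkr le_rfl z hz]
        · exact absurd (C.A34 j hj _ hdl hjk _ hr' (by omega) hP hdescj hdlv) id
        · exact absurd (C.A34 j hj _ hdl hjk _ hr' (by omega) hP hdescj hdlv) id

include C hd hZ hT hB in
/-- (α) the level case -/
theorem XF_alpha (M : ℕ)
    (IH : ∀ j < l, ∀ r < N, lv r < M → lv (σ j r) < M →
      cj (n j) (XF N σ lv d n Z r) = XF N σ lv d n Z (σ j r))
    (j : ℕ) (hj : j < l) (r : ℕ) (hr : r < N) (heq : lv (σ j r) = lv r) (hM : lv r ≤ M) :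
    cj (n j) (XF N σ lv d n Z r) = XF N σ lv d n Z (σ j r) := by
  have hr' := C.σ_lt j hj r hr
  by_cases h1 : lv r ≤ 1
  · obtain ⟨k, hk⟩ := C.base r hr h1 j hj
    have hk' := C.P_σ _ _ _ hk
    rw [XF_eq_Z C d hd n Z hZ _ r hr le_rfl ⟨_, _, hk⟩, XF_eq_Z C d hd n Z hZ _ _ hr' le_rfl ⟨_, _, hk'⟩,
      hZ _ _ _ hk]
  · have h2 : 2 ≤ lv r := by omega
    have hfix := C.level j hj r hr h2 heq
    obtain ⟨hdl, hdlv, -⟩ := hd r hr h2
    have hjk : j ≠ d r := by
      intro e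
      rw [← e, hfix] at hdlv
      omega
    rw [hfix]
    by_cases hP : P j (d r) r
    · have := hZ _ _ _ hP
      rw [hfix] at this
      rw [XF_eq_Z C d hd n Z hZ _ r hr le_rfl ⟨_, _, hP⟩, this]
    · have hr2 := C.σ_lt _ hdl r hr
      obtain ⟨z, hz, hb⟩ := hB j hj _ hdl hjk
      rcases C.m_cases j hj _ hdl hjk with hm | hm | hm
      · have l2 := C.L2 j hj _ hdl hjk r hr hm hP hfix hdlv
        have e1 : cj (n j) (XF N σ lv d n Z (σ (d r) r)) = XF N σ lv d n Z (σ (d r) r) := by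
          have := IH j hj _ hr2 (by omega) (by rw [l2]; omega)
          rw [this, l2]
        rw [hm] at hb
        simp only [alt, mul_one] at hb
        rw [XF_high d hd n Z r hr h2, ← cj_mul, hb, cj_mul _ z, XF_TN C d hd n Z hZ hT _ _ hr2 le_rfl z hz,
          cj_mul, e1]
      · obtain ⟨l3a, l3b⟩ := C.L3 j hj _ hdl hjk r hr hm hP hfix hdlv
        have hs := C.σ_lt j hj _ hr2
        have e1 : cj (n j) (XF N σ lv d n Z (σ j (σ (d r) r))) = XF N σ lv d n Z (σ (d r) r) := by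
          have := IH j hj _ hs (by omega) (by rw [C.σ_invol j hj _ hr2]; omega)
          rw [this, C.σ_invol j hj _ hr2]
        have e2 : cj (n (d r)) (XF N σ lv d n Z (σ j (σ (d r) r))) = XF N σ lv d n Z (σ j (σ (d r) r)) := by
          have := IH _ hdl _ hs (by omega) (by rw [l3b]; omega)
          rw [this, l3b]
        rw [hm] at hb
        simp only [alt, mul_one] at hb
        have lhs : cj (n j) (XF N σ lv d n Z r) =
            cj (n j * (n (d r) * n j)) (XF N σ lv d n Z (σ j (σ (d r) r))) := by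
          rw [XF_high d hd n Z r hr h2, ← e1, ← cj_mul, ← cj_mul, mul_assoc]
        have rhs : XF N σ lv d n Z r =
            cj (n (d r) * (n j * n (d r))) (XF N σ lv d n Z (σ j (σ (d r) r))) := by
          conv_lhs => rw [XF_high d hd n Z r hr h2, ← e1, ← e2]
          rw [← cj_mul, ← cj_mul, mul_assoc]
        rw [lhs, hb, cj_mul _ z, XF_TN C d hd n Z hZ hT _ _ hs le_rfl z hz, ← rhs]
      · obtain ⟨l4a, l4b, l4c⟩ := C.L4 j hj _ hdl hjk r hr hm hP hfix hdlv
        have hr1 := C.σ_lt j hj _ hr2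
        have hr0 := C.σ_lt _ hdl _ hr1
        have e0 : cj (n j) (XF N σ lv d n Z (σ (d r) (σ j (σ (d r) r)))) =
            XF N σ lv d n Z (σ (d r) (σ j (σ (d r) r))) := by
          have := IH j hj _ hr0 (by omega) (by rw [l4c]; omega)
          rw [this, l4c]
        have e1 : cj (n (d r)) (XF N σ lv d n Z (σ (d r) (σ j (σ (d r) r)))) =
            XF N σ lv d n Z (σ j (σ (d r) r)) := by
          have := IH _ hdl _ hr0 (by omega) (by rw [C.σ_invol _ hdl _ hr1]; omega)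
          rw [this, C.σ_invol _ hdl _ hr1]
        have e2 : cj (n j) (XF N σ lv d n Z (σ j (σ (d r) r))) = XF N σ lv d n Z (σ (d r) r) := by
          have := IH j hj _ hr1 (by omega) (by rw [C.σ_invol j hj _ hr2]; omega)
          rw [this, C.σ_invol j hj _ hr2]
        rw [hm] at hb
        simp only [alt, mul_one] at hb
        have lhs : cj (n j) (XF N σ lv d n Z r) =
            cj (n j * (n (d r) * (n j * n (d r)))) (XF N σ lv d n Z (σ (d r) (σ j (σ (d r) r)))) := by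
          rw [XF_high d hd n Z r hr h2, ← e2, ← e1, ← cj_mul, ← cj_mul, ← cj_mul, mul_assoc, mul_assoc]
        have rhs : XF N σ lv d n Z r =
            cj (n (d r) * (n j * (n (d r) * n j))) (XF N σ lv d n Z (σ (d r) (σ j (σ (d r) r)))) := by
          conv_lhs => rw [XF_high d hd n Z r hr h2, ← e2, ← e1, ← e0]
          rw [← cj_mul, ← cj_mul, ← cj_mul, mul_assoc, mul_assoc]
        rw [lhs, hb, cj_mul _ z, XF_TN C d hd n Z hZ hT _ _ hr0 le_rfl z hz, ← rhs]

include C hd hZ hT hB in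
/-- the `n j` permute the members of the family -/
theorem XF_conj : ∀ (M : ℕ) (j : ℕ), j < l → ∀ r < N, lv r ≤ M → lv (σ j r) ≤ M →
    cj (n j) (XF N σ lv d n Z r) = XF N σ lv d n Z (σ j r) := by
  intro M
  induction M with
  | zero =>
    intro j hj r hr h1 h2
    exact XF_alpha C d hd n Z hZ hT hB 0 (fun _ _ _ _ h _ => absurd h (Nat.not_lt_zero _)) j hj r hr (by omega) h1
  | succ M ih =>
    intro j hj r hr h1 h2
    have IH : ∀ j < l, ∀ r < N, lv r < M + 1 → lv (σ j r) < M + 1 →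
        cj (n j) (XF N σ lv d n Z r) = XF N σ lv d n Z (σ j r) :=
      fun j hj r hr h1 h2 => ih j hj r hr (by omega) (by omega)
    rcases lt_trichotomy (lv r) (lv (σ j r)) with h | h | h
    · exact XF_beta C d hd n Z hZ hT hB (M + 1) IH j hj r hr h h2
    · exact XF_alpha C d hd n Z hZ hT hB (M + 1) IH j hj r hr h.symm h1
    · have hr' := C.σ_lt j hj r hr
      have hinv := C.σ_invol j hj r hr
      have hb := XF_beta C d hd n Z hZ hT hB (M + 1) IH j hj _ hr' (by rw [hinv]; exact h) (by rw [hinv]; exact h1)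
      rw [hinv] at hb
      have hz : n j * n j ∈ Tsq l n := Subgroup.subset_closure ⟨j, hj, rfl⟩
      rw [← hb, ← cj_mul, XF_TN C d hd n Z hZ hT _ _ hr' le_rfl _ hz]

/-- the abstract extension theorem -/
theorem family_exists {Γ : Type*} [Group Γ] {N l : ℕ} {σ : ℕ → ℕ → ℕ} {lv : ℕ → ℕ} {P : ℕ → ℕ → ℕ → Prop}
    {m : ℕ → ℕ → ℕ} (C : Comb N l σ lv P m) (n : ℕ → Γ) (Z : ℕ → Subgroup Γ)
    (hZ : ∀ j k r, P j k r → cj (n j) (Z r) = Z (σ j r))
    (hT : ∀ j < l, ∀ k < l, (n k)⁻¹ * (n j * n j) * n k ∈ Tsq l n)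
    (hB : ∀ j < l, ∀ k < l, j ≠ k → ∃ z ∈ Tsq l n, alt (m j k) (n j) (n k) = alt (m j k) (n k) (n j) * z) :
    ∃ X : ℕ → Subgroup Γ, (∀ r < N, (∃ j k, P j k r) → X r = Z r) ∧
      ∀ j < l, ∀ r < N, cj (n j) (X r) = X (σ j r) := by
  classical
  have hex : ∀ r, ∃ d', r < N → 2 ≤ lv r → d' < l ∧ lv (σ d' r) < lv r ∧ ((∃ j k, P j k r) → ∃ k, P d' k r) := by
    intro r
    by_cases h : r < N ∧ 2 ≤ lv r
    · obtain ⟨d', h1, h2, h3⟩ := C.desc r h.1 h.2
      exact ⟨d', fun _ _ => ⟨h1, h2, h3⟩⟩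
    · exact ⟨0, fun h1 h2 => absurd ⟨h1, h2⟩ h⟩
  choose d hd using hex
  refine ⟨XF N σ lv d n Z, fun r hr hP => XF_eq_Z C d hd n Z hZ _ r hr le_rfl hP, fun j hj r hr => ?_⟩
  exact XF_conj C d hd n Z hZ hT hB (max (lv r) (lv (σ j r))) j hj r hr (le_max_left _ _) (le_max_right _ _)

end Family

end Cfsg.Agent.Helper19.CT
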