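import Cfsg.Agent.Helper19.CT.Defs
import Cfsg.Agent.Helper40.StH

/-!
helper19 (S1164, Curtis–Tits presentation): the interface of the farm — definitions only (no theorems to prove here).
See `tools/helper19_ct/Skel.lean.txt` for the statements of the pieces.
-/

set_option autoImplicit false
set_option linter.unusedSectionVars false

namespace Cfsg.Agent.Helper19.CT

open Cfsg Cfsg.Lie Cfsg.Agent.Helper18 Cfsg.Agent.Helper40.St Cfsg.Agent.Helper40.ChevAdd Cfsg.Agent.Helper40.UProd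
  Cfsg.Agent.Helper40.SL2Hom

/-- the alternating product `a b a ⋯` of length `m` -/
def alt {Γ : Type*} [Group Γ] : ℕ → Γ → Γ → Γ
  | 0, _, _ => 1
  | (m + 1), a, b => a * alt m b a

/-- the entries `2, 3, 4` of the Coxeter matrix, from the Cartan integers -/
def mCox (D : ChevalleyDatum) (j k : ℕ) : ℕ :=
  if D.cartan j (D.simple k) = 0 then 2
  else if D.cartan j (D.simple k) * D.cartan k (D.simple j) = 1 then 3 else 4

/-- the level of a root: the absolute value of the sum of its coroot coordinates -/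
def lvl (D : ChevalleyDatum) (r : ℕ) : ℕ :=
  (((List.range D.rank).map fun k => (D.coroot.getD r #[]).getD k 0).sum).natAbs

/-- the combinatorial facts on the roots (`N` roots, `l` fundamental reflections `σ j`, level `lv`, standard
subsystems `P j k` of rank at most two, Coxeter matrix `m`) used to extend the root subgroups of the standard
subsystems of rank at most two to all the roots -/
structure Comb (N l : ℕ) (σ : ℕ → ℕ → ℕ) (lv : ℕ → ℕ) (P : ℕ → ℕ → ℕ → Prop) (m : ℕ → ℕ → ℕ) : Prop where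
  σ_lt : ∀ j < l, ∀ r < N, σ j r < N
  σ_invol : ∀ j < l, ∀ r < N, σ j (σ j r) = r
  P_lt : ∀ j k r, P j k r → j < l ∧ k < l ∧ r < N
  P_symm : ∀ j k r, P j k r → P k j r
  P_σ : ∀ j k r, P j k r → P j k (σ j r)
  m_cases : ∀ j < l, ∀ k < l, j ≠ k → m j k = 2 ∨ m j k = 3 ∨ m j k = 4
  base : ∀ r < N, lv r ≤ 1 → ∀ j < l, ∃ k, P j k r
  desc : ∀ r < N, 2 ≤ lv r → ∃ d < l, lv (σ d r) < lv r ∧ ((∃ j k, P j k r) → ∃ k, P d k r)
  level : ∀ j < l, ∀ r < N, 2 ≤ lv r → lv (σ j r) = lv r → σ j r = r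
  A2 : ∀ j < l, ∀ k < l, j ≠ k → ∀ r < N, m j k = 2 → ¬ P j k r → lv (σ j r) < lv r → lv (σ k r) < lv r →
    σ j (σ k r) = σ k (σ j r) ∧ lv (σ j (σ k r)) < lv (σ k r) ∧ lv (σ k (σ j r)) < lv (σ j r)
  A34 : ∀ j < l, ∀ k < l, j ≠ k → ∀ r < N, m j k ≠ 2 → ¬ P j k r → lv (σ j r) < lv r → lv (σ k r) < lv r → False
  L2 : ∀ j < l, ∀ k < l, j ≠ k → ∀ r < N, m j k = 2 → ¬ P j k r → σ j r = r → lv (σ k r) < lv r →
    σ j (σ k r) = σ k r
  L3 : ∀ j < l, ∀ k < l, j ≠ k → ∀ r < N, m j k = 3 → ¬ P j k r → σ j r = r → lv (σ k r) < lv r →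
    lv (σ j (σ k r)) < lv (σ k r) ∧ σ k (σ j (σ k r)) = σ j (σ k r)
  L4 : ∀ j < l, ∀ k < l, j ≠ k → ∀ r < N, m j k = 4 → ¬ P j k r → σ j r = r → lv (σ k r) < lv r →
    lv (σ j (σ k r)) < lv (σ k r) ∧ lv (σ k (σ j (σ k r))) < lv (σ j (σ k r)) ∧
      σ j (σ k (σ j (σ k r))) = σ k (σ j (σ k r))

/-- the combinatorial facts for a Chevalley datum -/
def CombS (D : ChevalleyDatum) : Prop :=
  Comb D.nroots D.rank D.reflectRoot (lvl D) D.InRankTwoSub (mCox D)

/-- every pair of roots `s ≠ ± r` is moved by a word in the fundamental reflections into the positive part of a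
standard subsystem of rank at most two -/
def PairsS (D : ChevalleyDatum) : Prop :=
  ∀ r s, r < D.nroots → s < D.nroots → s ≠ r → s ≠ D.neg r → ∃ w : List ℕ, (∀ i ∈ w, i < D.rank) ∧ ∃ j k,
    D.InRankTwoSub j k (rho D w r) ∧ D.InRankTwoSub j k (rho D w s) ∧ hlfOf D ≤ rho D w r ∧ hlfOf D ≤ rho D w s

section
variable (D : ChevalleyDatum) (K : Type*) [Field K]

/-- the subgroup generated by the squares `n̂_j ^ 2` -/
def That : Subgroup (D.CurtisTitsGroup K) :=
  Subgroup.closure {g | ∃ j < D.rank, g = nhat D K j * nhat D K j}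

/-- the root subgroup `{x̂_r(t)}` of a root in a standard subsystem of rank at most two -/
def Zsub (r : ℕ) : Subgroup (D.CurtisTitsGroup K) := Subgroup.closure (Set.range (gen D K r))

/-- the action of `n̂_i` on the root elements of a standard subsystem of rank at most two containing `a_i` -/
def NActS : Prop :=
  ∀ i k s, D.InRankTwoSub i k s → ∃ e : K, (e = 1 ∨ e = -1) ∧
    (∀ u : K, nhat D K i * gen D K s u * (nhat D K i)⁻¹ = gen D K (D.reflectRoot i s) (e * u)) ∧
    (∀ u : K, nhat D K i * gen D K (D.neg s) u * (nhat D K i)⁻¹ = gen D K (D.neg (D.reflectRoot i s)) (e * u))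

/-- the `n̂_k` normalize `T̂` -/
def TorusS : Prop :=
  ∀ j < D.rank, ∀ k < D.rank, (nhat D K k)⁻¹ * (nhat D K j * nhat D K j) * nhat D K k ∈ That D K

/-- the braid relations modulo `T̂` -/
def BraidS : Prop :=
  ∀ j < D.rank, ∀ k < D.rank, j ≠ k → ∃ z ∈ That D K,
    alt (mCox D j k) (nhat D K j) (nhat D K k) = alt (mCox D j k) (nhat D K k) (nhat D K j) * z

/-- a family of root subgroups for all the roots, extending the root subgroups of the standard subsystems of rank
at most two and permuted by the `n̂_j` -/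
structure Fam (Xh : ℕ → Subgroup (D.CurtisTitsGroup K)) : Prop where
  eq_Z : ∀ r, R2 D r → Xh r = Zsub D K r
  conj : ∀ j < D.rank, ∀ r < D.nroots, ∀ g : D.CurtisTitsGroup K,
    g ∈ Xh (D.reflectRoot j r) ↔ (nhat D K j)⁻¹ * g * nhat D K j ∈ Xh r

variable {D}

/-- root elements `x̂_r(t)` for all the roots -/
structure Param (hD : D ∈ [chevD4, chevF4, chevE6, chevE7, chevE8]) (xh : ℕ → K → D.CurtisTitsGroup K) : Prop where
  pi : ∀ r < D.nroots, ∀ t : K, piCT hD K (xh r t) = xGL D (addOK_of_mem (mem7_of_mem5 hD)) K r t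
  eq_gen : ∀ r, R2 D r → ∀ t : K, xh r t = gen D K r t
  add : ∀ r < D.nroots, ∀ t u : K, xh r (t + u) = xh r t * xh r u
  conj : ∀ j < D.rank, ∀ r < D.nroots, ∃ e : K, (e = 1 ∨ e = -1) ∧
    (∀ t : K, nhat D K j * xh r t * (nhat D K j)⁻¹ = xh (D.reflectRoot j r) (e * t)) ∧
    (∀ t : K, nhat D K j * xh (D.neg r) t * (nhat D K j)⁻¹ = xh (D.neg (D.reflectRoot j r)) (e * t))

end

end Cfsg.Agent.Helper19.CT
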