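import Cfsg.Agent.Helper19.CT.Family

/-!
helper19 (S1164, Curtis–Tits presentation): the extension theorem in the Curtis–Tits group: root subgroups for all the
roots, permuted by the `n̂_j`.
-/

set_option autoImplicit false
set_option linter.unusedSectionVars false

namespace Cfsg.Agent.Helper19.CT

open Cfsg Cfsg.Lie Cfsg.Agent.Helper18 Cfsg.Agent.Helper40.St
open Pointwise

section
variable {Γ : Type*} [Group Γ]

theorem cj_closure (a : Γ) (S : Set Γ) :
    cj a (Subgroup.closure S) = Subgroup.closure ((fun x => a * x * a⁻¹) '' S) := by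
  unfold cj
  rw [Subgroup.smul_closure]
  congr 1

end

section
variable {D : ChevalleyDatum} (K : Type*) [Field K]

theorem cj_nhat_Zsub (hA : NActS D K) (j k r : ℕ) (h : D.InRankTwoSub j k r) :
    cj (nhat D K j) (Zsub D K r) = Zsub D K (D.reflectRoot j r) := by
  obtain ⟨e, he, h1, -⟩ := hA j k r h
  unfold Zsub
  rw [cj_closure]
  congr 1
  ext x
  constructor
  · rintro ⟨y, ⟨u, rfl⟩, rfl⟩
    exact ⟨e * u, (h1 u).symm⟩
  · rintro ⟨u, rfl⟩
    refine ⟨gen D K r (e * u), ⟨_, rfl⟩, ?_⟩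
    show nhat D K j * gen D K r (e * u) * (nhat D K j)⁻¹ = _
    rw [h1, ← mul_assoc]
    have : e * e = 1 := by rcases he with rfl | rfl <;> simp
    rw [this, one_mul]

theorem exists_fam_of (hC : CombS D) (hA : NActS D K) (hT : TorusS D K) (hB : BraidS D K) :
    ∃ Xh : ℕ → Subgroup (D.CurtisTitsGroup K), Fam D K Xh := by
  obtain ⟨X, hX1, hX2⟩ := family_exists hC (nhat D K) (Zsub D K) (cj_nhat_Zsub K hA) hT hB
  refine ⟨X, ⟨fun r hr => hX1 r hr.lt hr, fun j hj r hr g => ?_⟩⟩
  rw [← hX2 j hj r hr, mem_cj]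

end

end Cfsg.Agent.Helper19.CT
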