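import Cfsg.Agent.Helper19.CT.RecogDefs
import Cfsg.Agent.Helper40.StPres2

/-!
helper19 (S3712, recognition form of the Curtis–Tits Theorem): the final step. A surjective homomorphism from the
Curtis–Tits group onto `G`, together with the Curtis–Tits presentation, gives a surjective homomorphism of the
central quotients.
-/

set_option autoImplicit false
set_option linter.unusedSectionVars false

namespace Cfsg.Agent.Helper19.CT

open Cfsg Cfsg.Lie Cfsg.Agent.Helper18 Cfsg.Agent.Helper40.St Cfsg.Agent.Helper40.ChevAdd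

section
variable {D : ChevalleyDatum} (hD : D ∈ [chevD4, chevF4, chevE6, chevE7, chevE8]) (F : Type*) [Field F]
  {G : Type*} [Group G]

/-- a homomorphism from the Curtis–Tits group with the values `φ i` on the fundamental root elements contains the
ranges of the `φ i` in its range -/
theorem range_le_of_values (i : ℕ) (φi : ↥(Gstar D F i) →* G) (θ : D.CurtisTitsGroup F →* G)
    (hθ : ∀ (t : F) (h1 : xGL D (addOK_of_mem (mem7_of_mem5 hD)) F (D.simple i) t ∈ Gstar D F i)
      (h2 : xGL D (addOK_of_mem (mem7_of_mem5 hD)) F (D.neg (D.simple i)) t ∈ Gstar D F i),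
      θ (gen D F (D.simple i) t) = φi ⟨_, h1⟩ ∧ θ (gen D F (D.neg (D.simple i)) t) = φi ⟨_, h2⟩) :
    φi.range ≤ θ.range := by
  set H : Subgroup ↥(Gstar D F i) := θ.range.comap φi with hH
  have key : Gstar D F i ≤ H.map (Subgroup.subtype _) := by
    unfold Gstar ChevalleyDatum.rootSubgroup
    rw [sup_le_iff, Subgroup.closure_le, Subgroup.closure_le]
    constructor
    · rintro g ⟨t, hg⟩
      have e : g = xGL D (addOK_of_mem (mem7_of_mem5 hD)) F (D.simple i) t := by
        apply Units.ext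
        rw [hg, coe_xGL]
      have h1 : xGL D (addOK_of_mem (mem7_of_mem5 hD)) F (D.simple i) t ∈ Gstar D F i :=
        Subgroup.mem_sup_left (Subgroup.subset_closure ⟨t, by rw [coe_xGL]⟩)
      have h2 : xGL D (addOK_of_mem (mem7_of_mem5 hD)) F (D.neg (D.simple i)) t ∈ Gstar D F i :=
        Subgroup.mem_sup_right (Subgroup.subset_closure ⟨t, by rw [coe_xGL]⟩)
      rw [e]
      refine ⟨⟨_, h1⟩, ?_, rfl⟩
      show φi ⟨_, h1⟩ ∈ θ.range
      rw [← (hθ t h1 h2).1]
      exact ⟨_, rfl⟩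
    · rintro g ⟨t, hg⟩
      have e : g = xGL D (addOK_of_mem (mem7_of_mem5 hD)) F (D.neg (D.simple i)) t := by
        apply Units.ext
        rw [hg, coe_xGL]
      have h1 : xGL D (addOK_of_mem (mem7_of_mem5 hD)) F (D.simple i) t ∈ Gstar D F i :=
        Subgroup.mem_sup_left (Subgroup.subset_closure ⟨t, by rw [coe_xGL]⟩)
      have h2 : xGL D (addOK_of_mem (mem7_of_mem5 hD)) F (D.neg (D.simple i)) t ∈ Gstar D F i :=
        Subgroup.mem_sup_right (Subgroup.subset_closure ⟨t, by rw [coe_xGL]⟩)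
      rw [e]
      refine ⟨⟨_, h2⟩, ?_, rfl⟩
      show φi ⟨_, h2⟩ ∈ θ.range
      rw [← (hθ t h1 h2).2]
      exact ⟨_, rfl⟩
  rintro y ⟨⟨g, hg⟩, rfl⟩
  obtain ⟨x, hx, hxg⟩ := key hg
  have : x = ⟨g, hg⟩ := Subtype.ext hxg
  rw [this] at hx
  exact hx

/-- the final step of the recognition theorem -/
theorem recog_of (P : ℕ → Subgroup G) (hgen : ⨆ (i : ℕ) (_ : i < D.rank), P i = ⊤)
    (φ : ∀ i : ℕ, ↥(Gstar D F i) →* G) (hφ : ∀ i < D.rank, (φ i).range = P i)
    (e : D.CurtisTitsGroup F ≃* D.SteinbergGroup F) (θ : D.CurtisTitsGroup F →* G)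
    (hθ : ∀ i < D.rank, ∀ (t : F)
      (h1 : xGL D (addOK_of_mem (mem7_of_mem5 hD)) F (D.simple i) t ∈ Gstar D F i)
      (h2 : xGL D (addOK_of_mem (mem7_of_mem5 hD)) F (D.neg (D.simple i)) t ∈ Gstar D F i),
      θ (gen D F (D.simple i) t) = φ i ⟨_, h1⟩ ∧ θ (gen D F (D.neg (D.simple i)) t) = φ i ⟨_, h2⟩) :
    ∃ f : (↥(D.group F) ⧸ Subgroup.center ↥(D.group F)) →* (G ⧸ Subgroup.center G), Function.Surjective f := by
  have hD7 := mem7_of_mem5 hD
  -- `θ` is surjective
  have hθs : Function.Surjective θ := by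
    rw [← MonoidHom.range_eq_top, eq_top_iff, ← hgen]
    apply iSup_le
    intro i
    apply iSup_le
    intro hi
    rw [← hφ i hi]
    exact range_le_of_values hD F i (φ i) θ (hθ i hi)
  -- the group of Steinberg's presentation maps onto `G`
  let α : D.SteinbergGroup F →* G := θ.comp e.symm.toMonoidHom
  have hα : Function.Surjective α := hθs.comp e.symm.surjective
  let β : D.SteinbergGroup F →* G ⧸ Subgroup.center G := (QuotientGroup.mk' (Subgroup.center G)).comp α
  have hβ : Function.Surjective β := (QuotientGroup.mk'_surjective _).comp hα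
  obtain ⟨θ', hs', hk', -, -⟩ := presented_central (addOK_of_mem hD7) hD7 (D.steinbergRels F) (relsAB_subset D)
    (lift_rels D (addOK_of_mem hD7) hD7)
  have hle : θ'.ker ≤ β.ker := by
    intro z hz
    have hzc := hk' hz
    rw [MonoidHom.mem_ker]
    show QuotientGroup.mk' (Subgroup.center G) (α z) = 1
    rw [QuotientGroup.mk'_apply, QuotientGroup.eq_one_iff, Subgroup.mem_center_iff]
    intro g
    obtain ⟨x, rfl⟩ := hα g
    rw [← map_mul, ← map_mul, Subgroup.mem_center_iff.mp hzc x]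
  let γ : ↥(D.group F) →* G ⧸ Subgroup.center G := θ'.liftOfSurjective hs' ⟨β, hle⟩
  have hγ : ∀ x, γ (θ' x) = β x := fun x => MonoidHom.liftOfRightInverse_comp_apply _ _ _ ⟨β, hle⟩ x
  have hγs : Function.Surjective γ := by
    intro y
    obtain ⟨x, rfl⟩ := hβ y
    exact ⟨θ' x, hγ x⟩
  have hcen : Subgroup.center ↥(D.group F) ≤ γ.ker := by
    rw [center_group_eq_bot D hD7]
    exact bot_le
  refine ⟨QuotientGroup.lift _ γ hcen, ?_⟩
  intro y
  obtain ⟨x, rfl⟩ := hγs y
  exact ⟨QuotientGroup.mk x, rfl⟩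

end

end Cfsg.Agent.Helper19.CT
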