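import Cfsg.Agent.Helper19.CT.Simple

/-!
helper19 (S3712, recognition form of the Curtis–Tits Theorem): definitions.
-/

set_option autoImplicit false

namespace Cfsg.Agent.Helper19.CT

open Cfsg Cfsg.Lie

/-- `G*_i = ⟨X_{a_i}, X_{-a_i}⟩` -/
abbrev Gstar (D : ChevalleyDatum) (F : Type*) [Field F] (i : ℕ) : Subgroup (GL D.Idx F) :=
  D.rootSubgroup F (D.simple i) ⊔ D.rootSubgroup F (D.neg (D.simple i))

end Cfsg.Agent.Helper19.CT
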