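import Cfsg.Agent.Helper19.CT.Iface

/-!
helper19 (S1164, Curtis–Tits presentation): the fundamental roots lie in the standard subsystems of rank at most two.
-/

set_option autoImplicit false
set_option maxRecDepth 100000

namespace Cfsg.Agent.Helper19.CT

open Cfsg Cfsg.Lie Cfsg.Agent.Helper18 Cfsg.Agent.Helper40.St

/-- the coroot of the `i`-th fundamental root has only its `i`-th coordinate nonzero -/
def simpleCoordOK (D : ChevalleyDatum) : Bool :=
  (List.range D.rank).all fun i => decide (D.simple i < D.nroots) && (List.range D.rank).all fun l =>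
    decide (l = i) || decide ((D.coroot.getD (D.simple i) #[]).getD l 0 = 0)

theorem simpleCoordOK_D4 : simpleCoordOK chevD4 = true := by decide +kernel
theorem simpleCoordOK_F4 : simpleCoordOK chevF4 = true := by decide +kernel
theorem simpleCoordOK_E6 : simpleCoordOK chevE6 = true := by decide +kernel
theorem simpleCoordOK_E7 : simpleCoordOK chevE7 = true := by decide +kernel
theorem simpleCoordOK_E8 : simpleCoordOK chevE8 = true := by decide +kernel

theorem simpleCoordOK_of_mem {D : ChevalleyDatum} (hD : D ∈ [chevD4, chevF4, chevE6, chevE7, chevE8]) :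
    simpleCoordOK D = true := by
  simp only [List.mem_cons, List.not_mem_nil, or_false] at hD
  rcases hD with rfl | rfl | rfl | rfl | rfl
  exacts [simpleCoordOK_D4, simpleCoordOK_F4, simpleCoordOK_E6, simpleCoordOK_E7, simpleCoordOK_E8]

section
variable {D : ChevalleyDatum} (hD : D ∈ [chevD4, chevF4, chevE6, chevE7, chevE8])
include hD

/-- `a_i ∈ Φ_{ik}` -/
theorem inRankTwoSub_simple (i k : ℕ) (hi : i < D.rank) (hk : k < D.rank) : D.InRankTwoSub i k (D.simple i) := by
  have h := simpleCoordOK_of_mem hD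
  unfold simpleCoordOK at h
  rw [List.all_eq_true] at h
  have h1 := h i (List.mem_range.mpr hi)
  rw [Bool.and_eq_true, decide_eq_true_eq, List.all_eq_true] at h1
  refine ⟨h1.1, hi, hk, fun l hl hli _ => ?_⟩
  have h2 := h1.2 l (List.mem_range.mpr hl)
  rw [Bool.or_eq_true, decide_eq_true_eq, decide_eq_true_eq] at h2
  rcases h2 with h2 | h2
  · exact absurd h2 hli
  · exact h2

/-- `a_k ∈ Φ_{ik}` -/
theorem inRankTwoSub_simple' (i k : ℕ) (hi : i < D.rank) (hk : k < D.rank) : D.InRankTwoSub i k (D.simple k) := by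
  obtain ⟨h1, -, -, h4⟩ := inRankTwoSub_simple hD k i hk hi
  exact ⟨h1, hi, hk, fun l hl hli hlk => h4 l hl hlk hli⟩

omit hD in
theorem inRankTwoSub_symm {i k r : ℕ} (h : D.InRankTwoSub i k r) : D.InRankTwoSub k i r := by
  obtain ⟨h1, h2, h3, h4⟩ := h
  exact ⟨h1, h3, h2, fun l hl hli hlk => h4 l hl hlk hli⟩

theorem R2_simple (i : ℕ) (hi : i < D.rank) : R2 D (D.simple i) := ⟨i, i, inRankTwoSub_simple hD i i hi hi⟩

theorem R2_neg_simple (i : ℕ) (hi : i < D.rank) : R2 D (D.neg (D.simple i)) :=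
  ⟨i, i, inRankTwoSub_neg hD (inRankTwoSub_simple hD i i hi hi)⟩

variable (K : Type*) [Field K]

/-- `toSt` maps `n̂_i` to `n̄_{a_i}(1)` -/
theorem toSt_nhat (i : ℕ) (hi : i < D.rank) :
    toSt hD K (nhat D K i) = nbar D (fun r t => D.stGen K r t) (D.simple i) 1 := by
  unfold nhat nbar Cfsg.Agent.Helper40.SL2Hom.w
  rw [map_mul, map_mul, toSt_gen hD K _ (R2_simple hD i hi), toSt_gen hD K _ (R2_neg_simple hD i hi)]

/-- `piCT` maps `n̂_i` to `n_{a_i}(1)` -/
theorem piCT_nhat (i : ℕ) (hi : i < D.rank) :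
    piCT hD K (nhat D K i) =
      Cfsg.Agent.Helper40.SL2Chev.nG D (Cfsg.Agent.Helper40.ChevAdd.addOK_of_mem (mem7_of_mem5 hD)) (D.simple i) 1 := by
  unfold nhat nbar Cfsg.Agent.Helper40.SL2Chev.nG Cfsg.Agent.Helper40.SL2Hom.w
  rw [map_mul, map_mul, piCT_gen hD K _ (R2_simple hD i hi), piCT_gen hD K _ (R2_neg_simple hD i hi)]

end

end Cfsg.Agent.Helper19.CT
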